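import Groth.Agent.CompInt.Cohom
import Groth.Agent.RefStalk.Open
import Groth.Agent.KFlat.SchemeStalk
import Groth.Agent.RefStalk.Refl
import Groth.Agent.RefStalk.Extend
import Groth.Agent.SerrePn.Perfect
import Groth.Agent.K0Coh.Basic
import Mathlib

/-!
The conormal sheaf of a complete intersection.
-/

set_option autoImplicit false
set_option linter.style.haveILetI false
set_option backward.isDefEq.respectTransparency false
set_option backward.isDefEq.respectTransparency.types false

universe u

open CategoryTheory CategoryTheory.Limits AlgebraicGeometry TopologicalSpace Opposite RingTheory.Sequence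
open Groth.Agent.KFlat (kap)
open Groth.Agent.QC (res resO)

noncomputable section

namespace Groth.Agent.CompInt

open Groth.Agent.KFlat in
theorem kap_map {X Y : Scheme.{u}} (f : X ⟶ Y) (x : X) {M M' : Y.Modules} (a : M ⟶ M')
    (v : PStalk (DCoh.toP.obj M) (f.base x)) :
    ((DerSch.stalkFunctor X x).map ((Scheme.Modules.pullback f).map a)).hom (kap f x M v) =
      kap f x M' (((DerSch.stalkFunctor Y (f.base x)).map a).hom v) := by
  obtain ⟨U, hU, s, rfl⟩ := exists_pgerm (DCoh.toP.obj M) (f.base x) v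
  refine (congrArg ((DerSch.stalkFunctor X x).map ((Scheme.Modules.pullback f).map a)).hom (kap_germ f x M U hU s)).trans ?_
  refine (pstMap_germ (DCoh.toP.map ((Scheme.Modules.pullback f).map a)) x (U := f ⁻¹ᵁ U) hU _).trans ?_
  refine Eq.trans ?_ (congrArg (kap f x M') (pstMap_germ (DCoh.toP.map a) (f.base x) hU s)).symm
  refine Eq.trans ?_ (kap_germ f x M' U hU _).symm
  exact congrArg (pgerm _ x (f ⁻¹ᵁ U) hU)
    (congrArg (fun φ : M ⟶ (Scheme.Modules.pushforward f).obj ((Scheme.Modules.pullback f).obj M') => φ.app U s)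
      ((Scheme.Modules.pullbackPushforwardAdjunction f).unit.naturality a)).symm

/-- Relations between the members of a weakly regular sequence have coefficients in the ideal they generate. -/
theorem mem_span_of_relation {R : Type u} [CommRing R] : ∀ {r : ℕ} (g : Fin r → R),
    IsWeaklyRegular R (List.ofFn g) → ∀ b : Fin r → R, ∑ i, b i * g i = 0 → ∀ i, b i ∈ Ideal.span (Set.range g)
  | 0, _, _, _, _, i => i.elim0
  | r + 1, g, h, b, hb, i => by
    classical
    set J' := Ideal.span (Set.range fun j : Fin r => g j.castSucc)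
    have hJ : J' ≤ Ideal.span (Set.range g) := Ideal.span_mono (by rintro _ ⟨j, rfl⟩; exact ⟨_, rfl⟩)
    rw [Fin.sum_univ_castSucc] at hb
    have hlast : b (Fin.last r) ∈ J' := by
      refine mem_of_mul_last_mem g h ?_
      rw [eq_neg_of_add_eq_zero_right hb]
      exact neg_mem (Ideal.sum_mem _ fun j _ => Ideal.mul_mem_left _ _ (Ideal.subset_span ⟨j, rfl⟩))
    obtain ⟨c, hc⟩ := (Submodule.mem_span_range_iff_exists_fun R).1 hlast
    have h' : IsWeaklyRegular R (List.ofFn fun j : Fin r => g j.castSucc) := by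
      rw [List.ofFn_succ', List.concat_eq_append, isWeaklyRegular_append_iff] at h
      exact h.1
    have hrec := mem_span_of_relation _ h' (fun j => b j.castSucc + c j * g (Fin.last r)) (by
      rw [← hb, ← hc]
      simp only [add_mul, Finset.sum_add_distrib, Finset.sum_mul, smul_eq_mul]
      exact congrArg _ (Finset.sum_congr rfl fun j _ => by ring))
    induction i using Fin.lastCases with
    | last => exact hJ hlast
    | cast j =>
      have h1 := hJ (hrec j)
      have h2 : c j * g (Fin.last r) ∈ Ideal.span (Set.range g) := Ideal.mul_mem_left _ _ (Ideal.subset_span ⟨_, rfl⟩)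
      simpa using sub_mem h1 h2

section Stalks

variable {X : Scheme.{u}}

/-- The stalk of the structure sheaf as a module. -/
def sE (x : X) : X.presheaf.stalk x ≃ₗ[X.presheaf.stalk x] (Coh.structureModule X).presheaf.stalk x :=
  (RefStalk.exists_structStalk x).choose

theorem sE_germ (x : X) {U : X.Opens} (hU : x ∈ U) (r : Γ(X, U)) :
    sE x ((X.presheaf.germ U x hU).hom r) =
      (Coh.structureModule X).presheaf.germ U x hU (r : Γ(Coh.structureModule X, U)) := by
  rw [sE, (RefStalk.exists_structStalk x).choose_spec]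
  rw [← WeakAssLib.mgerm_res (Coh.structureModule X) (le_top : U ≤ ⊤) hU (1 : Γ(X, (⊤ : X.Opens)))]
  refine (WeakAssLib.mgerm_smul _ _ _ _).symm.trans (congrArg _ ?_)
  change r * resO X (le_top : U ≤ ⊤) 1 = r
  rw [map_one, mul_one]

/-- The stalk of the inclusion of an ideal module. -/
def istalk (I : X.IdealSheafData) (x : X) :
    (ClSub.idealMod I).presheaf.stalk x →ₗ[X.presheaf.stalk x] X.presheaf.stalk x :=
  (sE x).symm.toLinearMap ∘ₗ RefHull.stalkMapₗ (ClSub.idealModι I) x

theorem istalk_germ (I : X.IdealSheafData) (x : X) {U : X.Opens} (hU : x ∈ U) (s : Γ(ClSub.idealMod I, U)) :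
    istalk I x ((ClSub.idealMod I).presheaf.germ U x hU s) =
      (X.presheaf.germ U x hU).hom ((ClSub.idealModι I).app U s) :=
  (sE x).symm_apply_eq.2 ((RefHull.stalkMapₗ_germ _ x hU s).trans (sE_germ x hU _).symm)

theorem istalk_injective (I : X.IdealSheafData) (x : X) : Function.Injective (istalk I x) := by
  haveI : Mono (ClSub.idealModι I) := by rw [ClSub.idealModι]; infer_instance
  exact (sE x).symm.injective.comp (WeakAssLib.stalkHom_injective (ClSub.idealModι I) x)

/-- Stalks of an ideal module are generated by lifts of local generators of the ideal. -/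
theorem exists_stalk_gens (I : X.IdealSheafData) (U : X.affineOpens) (x : X) (hx : x ∈ U.1) {ι : Type} [Fintype ι]
    (c : ι → Γ(X, U.1)) (hI : I.ideal U = Ideal.span (Set.range c)) :
    ∃ m : ι → (ClSub.idealMod I).presheaf.stalk x,
      (∀ i, istalk I x (m i) = (X.presheaf.germ U.1 x hx).hom (c i)) ∧
      ∀ v, ∃ b : ι → X.presheaf.stalk x, v = ∑ i, b i • m i := by
  classical
  have h : ∀ i, ∃ t, (ClSub.idealModι I).app U.1 t = c i := fun i =>
    (QC.mem_range_idealModι_affine I U (c i)).2 (hI.ge (Ideal.subset_span ⟨i, rfl⟩))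
  choose t ht using h
  have hm : ∀ i, istalk I x ((ClSub.idealMod I).presheaf.germ U.1 x hx (t i)) = (X.presheaf.germ U.1 x hx).hom (c i) :=
    fun i => (istalk_germ I x hx (t i)).trans (congrArg _ (ht i))
  refine ⟨fun i => (ClSub.idealMod I).presheaf.germ U.1 x hx (t i), hm, fun v => ?_⟩
  obtain ⟨W, hW, s, rfl⟩ := TopCat.Presheaf.exists_germ_eq (ClSub.idealMod I).presheaf v
  obtain ⟨f, hf, hxf⟩ := U.2.exists_basicOpen_le ⟨x, hW⟩ hx
  have hmem := (QC.mem_range_idealModι_affine I (X.affineBasicOpen f)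
    ((ClSub.idealModι I).app (X.basicOpen f) (res _ hf s))).1 ⟨_, rfl⟩
  rw [← I.map_ideal_basicOpen U f, hI, Ideal.map_span, ← Set.range_comp] at hmem
  obtain ⟨b, hb⟩ := (Ideal.mem_span_range_iff_exists_fun (v := fun i => resO X (X.basicOpen_le f) (c i))).1 hmem
  refine ⟨fun i => (X.presheaf.germ (X.basicOpen f) x hxf).hom (b i), istalk_injective I x ?_⟩
  rw [← WeakAssLib.mgerm_res (ClSub.idealMod I) hf hxf s, map_sum]
  refine (istalk_germ I x hxf _).trans ?_
  refine Eq.trans (b := (X.presheaf.germ (X.basicOpen f) x hxf).hom (∑ i, b i * resO X (X.basicOpen_le f) (c i))) ?_ ?_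
  · exact congrArg _ hb.symm
  · rw [map_sum]
    refine Finset.sum_congr rfl fun i _ => ?_
    rw [map_smul, hm, map_mul]
    refine congrArg ((X.presheaf.germ (X.basicOpen f) x hxf).hom (b i) * ·) ?_
    exact TopCat.Presheaf.germ_res_apply X.presheaf (homOfLE (X.basicOpen_le f)) x hxf (c i)

end Stalks

variable {k : Type u} [Field k] {n t : ℕ} {a : Fin t → ℕ} {G : ∀ j, LefPen.Form n k (a j)}

theorem IsCI.isWeaklyRegular (h : IsCI G) (z : (LefPen.ciIdeal G).subscheme)
    (hz : IsClosed ({z} : Set (LefPen.ciIdeal G).subscheme)) {l : Fin (n + 1)}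
    (hl : (LefPen.ciIdeal G).subschemeι z ∈ (C k n l).1) : IsWeaklyRegular ((P k n).presheaf.stalk ((LefPen.ciIdeal G).subschemeι z)) (List.ofFn (germs G _ hl)) := by
  haveI := SerrePn.isRegularLocalRing_stalk k n ((LefPen.ciIdeal G).subschemeι z)
  haveI := CMFlat.isCohenMacaulayLocalRing_of_isRegularLocalRing
    ((P k n).presheaf.stalk ((LefPen.ciIdeal G).subschemeι z))
  have h1 := le_dim_stalk G z hz
  have h2 := (RegDual.ringKrullDim_stalk_le_topologicalKrullDim z).trans h.dim
  obtain ⟨e, he⟩ := exists_nat_of_le h2 (ne_bot_of_le_ne_bot WithBot.zero_ne_bot ringKrullDim_nonneg_of_nontrivial)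
  rw [he] at h1 h2
  have he1 : n ≤ e + t := by exact_mod_cast h1
  have he2 : e ≤ n - t := by exact_mod_cast h2
  have hle := h.le
  exact isWeaklyRegular_of_dim (germs G _ hl) (e := e)
    (Ideal.span_le.2 (by rintro _ ⟨j, rfl⟩; exact germs_mem G z hl j))
    ((ringKrullDim_eq_of_ringEquiv (stalkEquiv G z hl)).trans he)
    (by rw [SerrePn.ringKrullDim_stalk k n _ (isClosed_image G hz), show t + e = n by omega])

/-- The ideal of one equation in the ideal of all of them. -/
def inclHyp (G : ∀ j, LefPen.Form n k (a j)) (i : Fin t) :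
    ClSub.idealMod (LefPen.hypIdeal (G i)) ⟶ ClSub.idealMod (LefPen.ciIdeal G) :=
  kernel.lift (ClSub.toSubscheme (LefPen.ciIdeal G)) (ClSub.idealModι (LefPen.hypIdeal (G i))) (by
    refine Scheme.Modules.hom_ext _ _ fun W => ?_
    ext s
    refine QC.section_eq_of_locally fun x hx => ?_
    obtain ⟨D, hD, hxD, hDW⟩ := exists_isAffineOpen_mem_and_subset (x := x) (U := W) hx
    refine ⟨D, hDW, hxD, ?_⟩
    rw [QC.app_res, QC.app_res]
    show (ClSub.toSubscheme (LefPen.ciIdeal G)).app D ((ClSub.idealModι (LefPen.hypIdeal (G i))).app D (res _ hDW s)) = _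
    refine Eq.trans (b := 0) ((QC.mem_range_kernel_app (ClSub.toSubscheme (LefPen.ciIdeal G)) _ _).mp
      ((QC.mem_range_idealModι_affine _ ⟨D, hD⟩ _).mpr ?_)) rfl
    exact (le_iSup (fun j => LefPen.hypIdeal (G j)) i : LefPen.hypIdeal (G i) ≤ LefPen.ciIdeal G) ⟨D, hD⟩
      ((QC.mem_range_idealModι_affine _ ⟨D, hD⟩ _).mp ⟨_, rfl⟩))

theorem inclHyp_ι (i : Fin t) :
    inclHyp G i ≫ ClSub.idealModι (LefPen.ciIdeal G) = ClSub.idealModι (LefPen.hypIdeal (G i)) :=
  kernel.lift_ι _ _ _

/-- All the equations. -/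
def allHyp (G : ∀ j, LefPen.Form n k (a j)) :
    (∐ fun i : Fin t => ClSub.idealMod (LefPen.hypIdeal (G i))) ⟶ ClSub.idealMod (LefPen.ciIdeal G) :=
  Sigma.desc (inclHyp G)

theorem IsCI.bijective_conormal_stalk (h : IsCI G) (z : (LefPen.ciIdeal G).subscheme)
    (hz : IsClosed ({z} : Set (LefPen.ciIdeal G).subscheme)) :
    Function.Bijective
      ((DerSch.stalkFunctor _ z).map ((Scheme.Modules.pullback (LefPen.ciIdeal G).subschemeι).map (allHyp G))).hom := by
  classical
  set ι := (LefPen.ciIdeal G).subschemeι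
  obtain ⟨l, hl⟩ := PicPn.exists_mem_ch (k := k) (n := n) (ι z)
  obtain ⟨m, hm, hmgen⟩ := exists_stalk_gens (LefPen.ciIdeal G) (C k n l) (ι z) hl
    (fun j => eqn (G j) l) (ciIdeal_chart G l)
  have hy' : ∀ i, ∃ y : (ClSub.idealMod (LefPen.hypIdeal (G i))).presheaf.stalk (ι z),
      istalk _ _ y = germs G (ι z) hl i ∧ ∀ v, ∃ b : (P k n).presheaf.stalk (ι z), v = b • y := fun i => by
    obtain ⟨y, hy, hgen⟩ := exists_stalk_gens (LefPen.hypIdeal (G i)) (C k n l) (ι z) hl
      (fun _ : Unit => eqn (G i) l) (by rw [hypIdeal_chart, Set.range_const])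
    refine ⟨y (), hy (), fun v => ?_⟩
    obtain ⟨b, hb⟩ := hgen v
    exact ⟨b (), by simpa using hb⟩
  choose y₀ hy₀ hy₀gen using hy'
  let N := fun i : Fin t => ClSub.idealMod (LefPen.hypIdeal (G i))
  let st := DerSch.stalkFunctor (P k n) (ι z)
  let y : Fin t → (∐ N).presheaf.stalk (ι z) := fun i => (st.map (Sigma.ι N i)).hom (y₀ i)
  have hα : ∀ i, (st.map (allHyp G)).hom (y i) = m i := fun i => by
    refine istalk_injective (LefPen.ciIdeal G) (ι z) ?_
    rw [hm]
    refine Eq.trans ?_ (hy₀ i)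
    show (sE (ι z)).symm ((st.map (ClSub.idealModι (LefPen.ciIdeal G))).hom ((st.map (allHyp G)).hom ((st.map (Sigma.ι N i)).hom (y₀ i)))) =
      (sE (ι z)).symm ((st.map (ClSub.idealModι (LefPen.hypIdeal (G i)))).hom (y₀ i))
    rw [← ModuleCat.comp_apply, ← Functor.map_comp, ← ModuleCat.comp_apply, ← Functor.map_comp]
    congr 5
    exact (Category.assoc _ _ _).symm.trans ((Sigma.ι_desc (inclHyp G) i).symm ▸ inclHyp_ι i)
  -- the functional with values in the free module
  let φ : (Fin t → (P k n).presheaf.stalk (ι z)) →ₗ[(P k n).presheaf.stalk (ι z)]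
      (ClSub.idealMod (LefPen.ciIdeal G)).presheaf.stalk (ι z) := Fintype.linearCombination _ m
  have hφ : Function.Surjective φ := fun v => by
    obtain ⟨b, hb⟩ := hmgen v
    exact ⟨b, (Fintype.linearCombination_apply _ _ _).trans hb.symm⟩
  have hrel : ∀ b, φ b = 0 → ∀ i, (ι.stalkMap z).hom (b i) = 0 := fun b hb i => by
    have h0 : ∑ j, b j * germs G (ι z) hl j = 0 := by
      have h1 := congrArg (istalk (LefPen.ciIdeal G) (ι z)) hb
      rw [map_zero, Fintype.linearCombination_apply, map_sum] at h1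
      simp only [map_smul, hm, smul_eq_mul] at h1
      exact h1
    have := mem_span_of_relation _ (h.isWeaklyRegular z hz hl) b h0 i
    rwa [← ker_stalk G z hl, RingHom.mem_ker] at this
  let P' : ModuleCat.{u} ((LefPen.ciIdeal G).subscheme.presheaf.stalk z) :=
    ModuleCat.of _ (Fin t → (LefPen.ciIdeal G).subscheme.presheaf.stalk z)
  choose inv hinv using hφ
  have hwd : ∀ b b', φ b = φ b' → ∀ i, (ι.stalkMap z).hom (b i) = (ι.stalkMap z).hom (b' i) := fun b b' e i => by
    have := hrel (b - b') (by rw [map_sub, e, sub_self]) i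
    rwa [Pi.sub_apply, map_sub, sub_eq_zero] at this
  let h₀ : (DerSch.stalkFunctor (P k n) (ι z)).obj (ClSub.idealMod (LefPen.ciIdeal G)) ⟶
      (ModuleCat.restrictScalars (ι.stalkMap z).hom).obj P' :=
    ModuleCat.ofHom (Y := (ModuleCat.restrictScalars (ι.stalkMap z).hom).obj P')
      { toFun := fun v => fun i => (ι.stalkMap z).hom (inv v i)
        map_add' := fun v w => funext fun i => by
          rw [hwd (inv (v + w)) (inv v + inv w) (by rw [map_add, hinv, hinv, hinv]) i, Pi.add_apply, map_add]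
          rfl
        map_smul' := fun r v => funext fun i => by
          rw [hwd (inv (r • v)) (r • inv v) (by rw [map_smul, hinv, hinv]) i, Pi.smul_apply, smul_eq_mul, map_mul]
          rfl }
  obtain ⟨g, hg⟩ := KFlat.exists_pull_stalk_desc ι z (ClSub.idealMod (LefPen.ciIdeal G)) h₀
  set Φ := ((DerSch.stalkFunctor _ z).map ((Scheme.Modules.pullback ι).map (allHyp G))).hom
  have hnat : ∀ v, Φ (kap ι z (∐ N) v) = kap ι z _ ((st.map (allHyp G)).hom v) := fun v => by
    exact kap_map ι z (allHyp G) v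
  let A : (Fin t → (LefPen.ciIdeal G).subscheme.presheaf.stalk z) →ₗ[(LefPen.ciIdeal G).subscheme.presheaf.stalk z]
      ((DerSch.stalkFunctor _ z).obj ((Scheme.Modules.pullback ι).obj (∐ N))) :=
    Fintype.linearCombination _ fun i => kap ι z (∐ N) (y i)
  have hA : Function.Surjective A := by
    rw [← LinearMap.range_eq_top]
    have hgen : ∀ v : (∐ N).presheaf.stalk (ι z), kap ι z (∐ N) v ∈ LinearMap.range A := by
      let S : Submodule ((P k n).presheaf.stalk (ι z)) (st.obj (∐ N)) :=
        { carrier := {v | kap ι z (∐ N) v ∈ LinearMap.range A}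
          add_mem' := fun {p q} hp hq => by rw [Set.mem_ofPred_eq, map_add]; exact add_mem hp hq
          zero_mem' := by rw [Set.mem_ofPred_eq, map_zero]; exact zero_mem _
          smul_mem' := fun r p hp => by rw [Set.mem_ofPred_eq, KFlat.kap_smul]; exact Submodule.smul_mem _ _ hp }
      haveI : PreservesColimitsOfShape (Discrete (Fin t)) st := inferInstance
      have hq : ModuleCat.ofHom S.mkQ = 0 :=
        (isColimitOfPreserves st (coproductIsCoproduct N)).hom_ext fun ⟨i⟩ => ModuleCat.hom_ext (LinearMap.ext fun v => by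
          refine (Submodule.Quotient.mk_eq_zero S).2 ?_
          obtain ⟨b, rfl⟩ := hy₀gen i v
          rw [map_smul]
          refine S.smul_mem b ⟨Pi.single i 1, ?_⟩
          rw [Fintype.linearCombination_apply_single, one_smul]
          rfl)
      exact fun v => (Submodule.Quotient.mk_eq_zero S).1 (congrArg (fun φ => φ.hom v) hq)
    have hq : ModuleCat.ofHom (LinearMap.range A).mkQ = 0 :=
      KFlat.pull_stalk_ext ι z (∐ N) fun v => (Submodule.Quotient.mk_eq_zero _).2 (hgen v)
    rw [eq_top_iff]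
    exact fun v _ => (Submodule.Quotient.mk_eq_zero _).1 (congrArg (fun φ => φ.hom v) hq)
  have hcomp : Function.Surjective (g.hom ∘ₗ Φ ∘ₗ A) := by
    rw [← LinearMap.range_eq_top, eq_top_iff, ← (Pi.basisFun _ (Fin t)).span_eq, Submodule.span_le]
    rintro _ ⟨i, rfl⟩
    refine ⟨Pi.single i 1, ?_⟩
    show g.hom (Φ (A (Pi.single i 1))) = _
    rw [Fintype.linearCombination_apply_single, one_smul, hnat, hα]
    refine (hg (m i)).trans (funext fun j => ?_)
    show (ι.stalkMap z).hom (inv (m i) j) = _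
    rw [hwd (inv (m i)) (Pi.single i 1) (by rw [hinv, Fintype.linearCombination_apply_single, one_smul]) j,
      Pi.basisFun_apply, Pi.single_apply, Pi.single_apply]
    split_ifs <;> simp
  have hb : Function.Injective (g.hom ∘ₗ Φ ∘ₗ A) :=
    OrzechProperty.injective_of_surjective_endomorphism (g.hom ∘ₗ Φ ∘ₗ A) hcomp
  refine ⟨fun p q e => ?_, fun w => ?_⟩
  · obtain ⟨p, rfl⟩ := hA p
    obtain ⟨q, rfl⟩ := hA q
    exact congrArg A (hb (congrArg g.hom e))
  · have hq : ModuleCat.ofHom (LinearMap.range Φ).mkQ = 0 :=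
      KFlat.pull_stalk_ext ι z _ fun v => (Submodule.Quotient.mk_eq_zero _).2 (by
        obtain ⟨b, rfl⟩ := hmgen v
        rw [map_sum]
        refine Submodule.sum_mem _ fun i _ => ?_
        rw [KFlat.kap_smul, ← hα i, ← hnat]
        exact Submodule.smul_mem _ _ ⟨_, rfl⟩)
    exact LinearMap.mem_range.1 ((Submodule.Quotient.mk_eq_zero _).1 (congrArg (fun φ => φ.hom w) hq))

theorem IsCI.nonempty_conormal_iso (h : IsCI G) :
    Nonempty ((∐ fun i : Fin t => (Scheme.Modules.pullback (LefPen.ciIdeal G).subschemeι).obj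
        (Twist.twistProjSpace n k (-(a i : ℤ)))) ≅
      (Scheme.Modules.pullback (LefPen.ciIdeal G).subschemeι).obj (ClSub.idealMod (LefPen.ciIdeal G))) := by
  classical
  set ι := (LefPen.ciIdeal G).subschemeι
  haveI := ProjMor.isProper_toSpec n k
  haveI : IsLocallyNoetherian (LefPen.ciIdeal G).subscheme :=
    LocallyOfFiniteType.isLocallyNoetherian (ι ≫ CohB1.ProjSpace.toSpec n k)
  haveI : JacobsonSpace (LefPen.ciIdeal G).subscheme :=
    LocallyOfFiniteType.jacobsonSpace (ι ≫ CohB1.ProjSpace.toSpec n k)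
  have hne : ∀ i, G i ≠ 0 := fun i h0 => by
    obtain ⟨z₀⟩ := h.nonempty
    obtain ⟨z, -, hz⟩ := nonempty_inter_closedPoints (X := (LefPen.ciIdeal G).subscheme)
      (Z := Set.univ) ⟨z₀, trivial⟩ isClosed_univ.isLocallyClosed
    obtain ⟨l, hl⟩ := PicPn.exists_mem_ch (k := k) (n := n) (ι z)
    have hg : germs G (ι z) hl i = 0 := by
      rw [germs, eqn, h0, ZeroMemClass.coe_zero, map_zero, map_zero]
    have := mem_span_of_relation (germs G (ι z) hl) (h.isWeaklyRegular z hz hl) (Pi.single i 1) (by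
      rw [Finset.sum_eq_single i (fun j _ hj => by rw [Pi.single_eq_of_ne hj, zero_mul])
        (fun hi => absurd (Finset.mem_univ i) hi), hg, mul_zero]) i
    rw [Pi.single_eq_same] at this
    exact (Ideal.ne_top_iff_one _).1 (ker_stalk G z hl ▸ RingHom.ker_ne_top _) this
  let e : ∀ i, ClSub.idealMod (LefPen.hypIdeal (G i)) ≅ Twist.twistProjSpace n k (-(a i : ℤ)) :=
    fun i => (PlaneCurve.nonempty_ideal_iso_twist (G i) (hne i)).some
  have hN : Coh.IsCoh (∐ fun i : Fin t => ClSub.idealMod (LefPen.hypIdeal (G i))) :=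
    K0Coh.isCoh_of_iso (Sigma.mapIso e).symm (SerrePn.isCoh_sum (k := k) (n := n) fun i => -(a i : ℤ))
  have hI : Coh.IsCoh (ClSub.idealMod (LefPen.ciIdeal G)) := (CurveRR.isCoh_idealMod _).1
  have hN' := QC.isCoh_pullback ι hN
  have hI' := QC.isCoh_pullback ι hI
  have hb := RefStalk.isIso_of_closedPoints ((Scheme.Modules.pullback ι).map (allHyp G))
    (QC.isFP_of_isQCoh_of_isFT (hM := hN'.1) hN'.2) (QC.isFP_of_isQCoh_of_isFT (hM := hI'.1) hI'.2)
    (fun Z hZ hne => nonempty_inter_closedPoints hne hZ.isLocallyClosed)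
    (fun z hz => h.bijective_conormal_stalk z hz)
  haveI : IsIso ((Scheme.Modules.pullback ι).map (allHyp G)) := ZCl.isIso_of_bijective _ fun O =>
    RefStalk.bijective_app_of_stalk _ fun x _ => hb x
  exact ⟨(Sigma.mapIso fun i => (Scheme.Modules.pullback ι).mapIso (e i).symm) ≪≫
    (PreservesCoproduct.iso (Scheme.Modules.pullback ι) _).symm ≪≫ asIso ((Scheme.Modules.pullback ι).map (allHyp G))⟩

end Groth.Agent.CompInt
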