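import Groth.Agent.ClSubLib.EssSurj
import Groth.Agent.SerrePn.ClosedTwist
import Groth.Agent.W7Adic.Embed
import Groth.Agent.CohFinite.PushLinear
import Mathlib

/-!
Restriction of sections along compositions of closed immersions.
-/

set_option autoImplicit false
set_option linter.style.haveILetI false
set_option backward.isDefEq.respectTransparency false
set_option backward.isDefEq.respectTransparency.types false

universe u

open CategoryTheory CategoryTheory.Limits AlgebraicGeometry TopologicalSpace Opposite

noncomputable section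

namespace Groth.Agent.CompInt

variable {X Y Z : Scheme.{u}}

/-- Restriction of global sections along `f` is surjective on `L`. -/
def RestSurj (f : X ⟶ Y) (L : Y.Modules) : Prop :=
  Function.Surjective (((Scheme.Modules.pullbackPushforwardAdjunction f).unit.app L).app ⊤)

theorem app_surjective_of_isIso {M N : X.Modules} (φ : M ⟶ N) [IsIso φ] (U : X.Opens) :
    Function.Surjective (φ.app U) := fun s => ⟨(inv φ).app U s, by
  have h := congrArg (fun ψ : N ⟶ N => ψ.app U s) (IsIso.inv_hom_id φ)
  exact h⟩

theorem RestSurj.comp (f : X ⟶ Y) (g : Y ⟶ Z) (L : Z.Modules) (hg : RestSurj g L)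
    (hf : RestSurj f ((Scheme.Modules.pullback g).obj L)) : RestSurj (f ≫ g) L := by
  intro t
  have h := unit_conjugateEquiv
    ((Scheme.Modules.pullbackPushforwardAdjunction g).comp (Scheme.Modules.pullbackPushforwardAdjunction f))
    (Scheme.Modules.pullbackPushforwardAdjunction (f ≫ g)) (Scheme.Modules.pullbackComp f g).inv L
  rw [Scheme.Modules.conjugateEquiv_pullbackComp_inv] at h
  obtain ⟨t', ht'⟩ := app_surjective_of_isIso
    ((Scheme.Modules.pushforward (f ≫ g)).map ((Scheme.Modules.pullbackComp f g).hom.app L)) ⊤ t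
  obtain ⟨s₁, hs₁⟩ := hf t'
  obtain ⟨s, hs⟩ := hg s₁
  refine ⟨s, ?_⟩
  have h2 := congrArg (fun φ : L ⟶ _ => φ.app ⊤ s)
    (congrArg (· ≫ (Scheme.Modules.pushforward (f ≫ g)).map ((Scheme.Modules.pullbackComp f g).hom.app L)) h)
  simp only [Category.assoc, ← Functor.map_comp, Iso.inv_hom_id_app, CategoryTheory.Functor.map_id,
    Category.comp_id] at h2
  refine h2.symm.trans ?_
  rw [← ht', ← hs₁, ← hs]
  rfl

theorem restSurj_congr {f f' : X ⟶ Y} (h : f = f') {L : Y.Modules} (hf : RestSurj f L) : RestSurj f' L := h ▸ hf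

/-- Along a closed immersion with zero ideal the unit is an isomorphism. -/
theorem isIso_unit_of_ker_eq_bot (g : X ⟶ Y) [IsClosedImmersion g] (h : g.ker = ⊥) (M : Y.Modules) :
    IsIso ((Scheme.Modules.pullbackPushforwardAdjunction g).unit.app M) :=
  ClSubLib.isIso_unit g M fun U a ha m => by
    rw [h, Scheme.IdealSheafData.ideal_bot, Pi.bot_apply, Ideal.mem_bot] at ha
    rw [ha, zero_smul]

theorem restSurj_of_ker_eq_bot (g : X ⟶ Y) [IsClosedImmersion g] (h : g.ker = ⊥) (M : Y.Modules) :
    RestSurj g M :=
  haveI := isIso_unit_of_ker_eq_bot g h M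
  app_surjective_of_isIso _ _

/-- A surjection onto the push-forward of the inverse image detects surjectivity of the unit. -/
theorem restSurj_of_quotient (g : X ⟶ Y) [IsClosedImmersion g] {M : Y.Modules} (hM : PicF.IsInvertible M)
    {N : X.Modules} (hN : PicF.IsInvertible N) (q : M ⟶ (Scheme.Modules.pushforward g).obj N) [Epi q]
    (hq : Function.Surjective (q.app ⊤)) : RestSurj g M := by
  let adj := Scheme.Modules.pullbackPushforwardAdjunction g
  let β : (Scheme.Modules.pullback g).obj M ⟶ N := (adj.homEquiv M N).symm q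
  have hβ : adj.unit.app M ≫ (Scheme.Modules.pushforward g).map β = q := by
    exact ((adj.homEquiv_unit M N β).symm.trans ((adj.homEquiv M N).apply_symm_apply q))
  haveI : Epi (adj.unit.app M ≫ (Scheme.Modules.pushforward g).map β) := by rw [hβ]; infer_instance
  haveI : Epi ((Scheme.Modules.pushforward g).map β) := epi_of_epi (adj.unit.app M) _
  haveI : Epi β := by
    refine Abelian.epi_of_cokernel_π_eq_zero β (SerrePn.eq_zero_of_push g _ ?_)
    rw [← cancel_epi ((Scheme.Modules.pushforward g).map β), comp_zero, ← Functor.map_comp,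
      cokernel.condition, Functor.map_zero]
  haveI := W7Adic.isIso_of_epi_invertible (PicLoc.isInvertible_pullback g hM) hN β
  intro t
  obtain ⟨s, hs⟩ := hq (((Scheme.Modules.pushforward g).map β).app ⊤ t)
  refine ⟨s, ?_⟩
  rw [← hβ] at hs
  exact (ConcreteCategory.bijective_of_isIso (((Scheme.Modules.pushforward g).map β).app ⊤)).1 hs

end Groth.Agent.CompInt
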