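import Groth.Agent.CompInt.Ideal
import Groth.Agent.CompInt.Rest
import Groth.Agent.SerrePn.Basic
import Groth.Agent.CurveRR.Euler
import Mathlib

/-!
Cohomology of the twists of complete intersections.
-/

set_option autoImplicit false
set_option linter.style.haveILetI false
set_option backward.isDefEq.respectTransparency false
set_option backward.isDefEq.respectTransparency.types false

universe u

open CategoryTheory CategoryTheory.Limits AlgebraicGeometry TopologicalSpace Opposite
open Groth.Agent.CohFinite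

noncomputable section

namespace Groth.Agent.CompInt

section General

variable {k : Type u} [Field k] {X Y : Scheme.{u}}

/-- Vanishing transfers to the push-forward. -/
theorem hh_push_iff (g : X ⟶ Y) [IsClosedImmersion g] (st : Y ⟶ Spec (CommRingCat.of k)) (N : X.Modules)
    [N.IsQuasicoherent] (q : ℕ) :
    Subsingleton (Coh.HH X N q) ↔ Subsingleton (Coh.HH Y ((Scheme.Modules.pushforward g).obj N) q) := by
  letI : X.Over (Spec (CommRingCat.of k)) := ⟨g ≫ st⟩
  letI : Y.Over (Spec (CommRingCat.of k)) := ⟨st⟩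
  obtain ⟨e⟩ := hh_push_linear k g rfl N (CohQC.directAcyclic_of_isAffineHom g N) q
  exact e.toEquiv.subsingleton_congr

/-- Cohomology along a closed immersion with zero ideal. -/
theorem hh_pullback_of_ker_eq_bot (g : X ⟶ Y) [IsClosedImmersion g] (h : g.ker = ⊥) (st : Y ⟶ Spec (CommRingCat.of k))
    (M : Y.Modules) (hM : Coh.IsQCoh M) (q : ℕ) (hv : Subsingleton (Coh.HH Y M q)) :
    Subsingleton (Coh.HH X ((Scheme.Modules.pullback g).obj M) q) := by
  haveI := QC.isQCoh_pullback g hM
  haveI := isIso_unit_of_ker_eq_bot g h M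
  exact (hh_push_iff g st _ q).2 (CohQC.hh_subsingleton_of_iso (asIso ((Scheme.Modules.pullbackPushforwardAdjunction g).unit.app M)) q hv)

theorem h0_nat {M N : X.Modules} (φ : M ⟶ N) (z : Coh.HH X M 0) :
    Sheaf.H.equiv₀ (Coh.toAb N) (isTerminalTop : IsTerminal (⊤ : X.Opens)) (Sheaf.H.map (toAbMap φ) 0 z) =
      φ.app ⊤ (Sheaf.H.equiv₀ (Coh.toAb M) (isTerminalTop : IsTerminal (⊤ : X.Opens)) z) :=
  (Sheaf.H.equiv₀_naturality _ _ _).symm

theorem surjective_app_top {S : ShortComplex X.Modules} (hS : S.ShortExact) (hv : Subsingleton (Coh.HH X S.X₁ 1)) :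
    Function.Surjective (S.g.app ⊤) := by
  intro t
  let hT : IsTerminal (⊤ : X.Opens) := isTerminalTop
  obtain ⟨y, hy⟩ := (δH_eq_zero_iff (shortExact_toAb hS) 0 ((Sheaf.H.equiv₀ (Coh.toAb S.X₃) hT).symm t)).1
    (hv.elim _ _)
  refine ⟨Sheaf.H.equiv₀ (Coh.toAb S.X₂) hT y, ?_⟩
  refine (h0_nat S.g y).symm.trans ?_
  exact (congrArg _ hy).trans (AddEquiv.apply_symm_apply _ t)

/-- Vanishing of a composite pull-back. -/
theorem hh_pullback_comp {Z : Scheme.{u}} (f : X ⟶ Y) (g : Y ⟶ Z) (L : Z.Modules) (q : ℕ)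
    (hv : Subsingleton (Coh.HH X ((Scheme.Modules.pullback f).obj ((Scheme.Modules.pullback g).obj L)) q)) :
    Subsingleton (Coh.HH X ((Scheme.Modules.pullback (f ≫ g)).obj L) q) :=
  CohQC.hh_subsingleton_of_iso ((Scheme.Modules.pullbackComp f g).app L) q hv

/-- Push-forward of an inverse image ideal along a closed immersion. -/
theorem map_comap_eq_sup (f : X ⟶ Y) [IsClosedImmersion f] (H : Y.IdealSheafData) :
    (H.comap f).map f = H ⊔ f.ker := by
  refine le_antisymm (fun U => ?_) (sup_le (H.le_map_comap f)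
    ((Scheme.IdealSheafData.map_bot f).symm.trans_le (Scheme.IdealSheafData.map_mono f bot_le)))
  rw [Scheme.IdealSheafData.ideal_map_of_isAffineHom, Scheme.IdealSheafData.ideal_sup, Pi.sup_apply,
    Groth.Agent.FpqcDescent.ideal_comap_appLE _ _ U _ (le_refl _), ← Scheme.Hom.app_eq_appLE,
    Ideal.comap_map_of_surjective _ (f.app_surjective U.1 U.2), Scheme.Hom.ker_apply, RingHom.ker_eq_comap_bot]

end General

variable {k : Type u} [Field k] {n : ℕ}

/-- Vanishing and restriction for all twists. -/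
def Good {X : Scheme.{u}} (f : X ⟶ P k n) (m : ℕ) : Prop :=
  ∀ i : ℤ, (∀ p, 0 < p → p < m → Subsingleton (Coh.HH X ((Scheme.Modules.pullback f).obj (Twist.twistProjSpace n k i)) p)) ∧
    (1 ≤ m → RestSurj f (Twist.twistProjSpace n k i))

theorem isQCoh_twist (i : ℤ) : Coh.IsQCoh (Twist.twistProjSpace n k i) :=
  GrT.isQCoh_tilde (CohB1.polyGrading n k) (CohB1.polyGrading n k) i

theorem good_zero {a : Fin 0 → ℕ} (G : ∀ j, LefPen.Form n k (a j)) : Good (LefPen.ciIdeal G).subschemeι n := by
  have hker : (LefPen.ciIdeal G).subschemeι.ker = ⊥ := by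
    rw [Scheme.IdealSheafData.ker_subschemeι, LefPen.ciIdeal, iSup_of_empty]
  refine fun i => ⟨fun p hp hpn => ?_, fun _ => restSurj_of_ker_eq_bot _ hker _⟩
  exact hh_pullback_of_ker_eq_bot _ hker (CohB1.ProjSpace.toSpec n k) _ (isQCoh_twist i) p
    (ProjCech.twist_vanish (R := k) n i p (fun h => hp.ne' h.1) (fun h => hpn.ne h.1))

theorem good_succ {r : ℕ} {a : Fin (r + 1) → ℕ} {G : ∀ j, LefPen.Form n k (a j)} (h : IsCI G)
    (hY : Good (LefPen.ciIdeal (pre G)).subschemeι (n - r)) :
    Good (LefPen.ciIdeal G).subschemeι (n - (r + 1)) := by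
  set IY := LefPen.ciIdeal (pre G) with hIY
  set J := (LefPen.hypIdeal (G (Fin.last r))).comap IY.subschemeι with hJ
  have hkerJ : (J.subschemeι ≫ IY.subschemeι).ker = LefPen.ciIdeal G := by
    rw [← Scheme.IdealSheafData.map_ker, Scheme.IdealSheafData.ker_subschemeι, hJ,
      map_comap_eq_sup, Scheme.IdealSheafData.ker_subschemeι, ciIdeal_succ, sup_comm]
  let e : (LefPen.ciIdeal G).subscheme ⟶ J.subscheme := IsClosedImmersion.lift (J.subschemeι ≫ IY.subschemeι)
    (LefPen.ciIdeal G).subschemeι (by rw [hkerJ, Scheme.IdealSheafData.ker_subschemeι])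
  have he : e ≫ J.subschemeι ≫ IY.subschemeι = (LefPen.ciIdeal G).subschemeι := IsClosedImmersion.lift_fac _ _ _
  haveI : IsClosedImmersion (e ≫ J.subschemeι ≫ IY.subschemeι) := by rw [he]; infer_instance
  haveI : IsClosedImmersion e := IsClosedImmersion.of_comp e (J.subschemeι ≫ IY.subschemeι)
  haveI : IsIso e := IsClosedImmersion.isIso_of_ker_eq (LefPen.ciIdeal G).subschemeι
    (J.subschemeι ≫ IY.subschemeι) e he (by rw [hkerJ, Scheme.IdealSheafData.ker_subschemeι])
  have heker : e.ker = ⊥ := e.ker_eq_bot_of_isIso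
  intro i
  let L := Twist.twistProjSpace n k i
  let M := (Scheme.Modules.pullback IY.subschemeι).obj L
  have hL : PicF.IsInvertible L := GrT.isInvertible_twist_of_gens (PlaneCurve.hasFracGens _)
  have hM : PicF.IsInvertible M := PicLoc.isInvertible_pullback _ hL
  let d : ℤ := (a (Fin.last r) : ℤ)
  obtain ⟨t⟩ := h.nonempty_idealMod_iso
  obtain ⟨t'⟩ := GrT.nonempty_twist_tensor_iso (CohB1.polyGrading n k) (a := -d) (b := i) (c := i - d)
    (PlaneCurve.hasFracGens _) (by ring)
  let eK : CohB1.tensorMod (ClSub.idealMod J) M ≅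
      (Scheme.Modules.pullback IY.subschemeι).obj (Twist.twistProjSpace n k (i - d)) :=
    PicGrp.tensorModIso t (Iso.refl _) ≪≫ TMul.commIso _ _ ≪≫
      Groth.Agent.KFlat.pullTensorIso IY.subschemeι _ _ ≪≫ (Scheme.Modules.pullback IY.subschemeι).mapIso t'
  obtain ⟨eQ₀⟩ := SerrePn.nonempty_pushTwist J.subschemeι (Coh.structureModule J.subscheme) hM
  let eQ : CohB1.tensorMod (ClSub.quotMod J) M ≅
      (Scheme.Modules.pushforward J.subschemeι).obj ((Scheme.Modules.pullback J.subschemeι).obj M) :=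
    eQ₀ ≪≫ (Scheme.Modules.pushforward J.subschemeι).mapIso (TMul.leftUnitIso _)
  have hS := shortExact_tmap hM (CurveRR.ideal_shortExact J)
  have hvan : ∀ p, 0 < p → p < n - (r + 1) →
      Subsingleton (Coh.HH J.subscheme ((Scheme.Modules.pullback J.subschemeι).obj M) p) := fun p hp hpm => by
    haveI := QC.isQCoh_pullback J.subschemeι (TMul.isQCoh_of_isInvertible hM)
    refine (hh_push_iff J.subschemeι (IY.subschemeι ≫ CohB1.ProjSpace.toSpec n k) _ p).2
      (CohQC.hh_subsingleton_of_iso eQ p (CohFinite.subsingleton_of_shortExact hS p ?_ ?_))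
    · exact CohQC.hh_subsingleton_of_iso (TMul.leftUnitIso M).symm p ((hY i).1 p hp (by omega))
    · exact CohQC.hh_subsingleton_of_iso eK.symm (p + 1) ((hY (i - d)).1 (p + 1) (by omega) (by omega))
  refine ⟨fun p hp hpm => ?_, fun hm => ?_⟩
  · rw [← he]
    refine hh_pullback_comp _ _ _ p (hh_pullback_of_ker_eq_bot e heker
      ((J.subschemeι ≫ IY.subschemeι) ≫ CohB1.ProjSpace.toSpec n k) _ ?_ p ?_)
    · exact TMul.isQCoh_of_isInvertible (PicLoc.isInvertible_pullback _ hL)
    · exact hh_pullback_comp _ _ _ p (hvan p hp hpm)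
  · refine restSurj_congr he (RestSurj.comp _ _ _ (RestSurj.comp _ _ _ ((hY i).2 (by omega)) ?_)
      (restSurj_of_ker_eq_bot e heker _))
    haveI := hS.epi_g
    let q := (TMul.leftUnitIso M).inv ≫ tmap (ClSub.toSubscheme J) M ≫ eQ.hom
    haveI : Epi q := inferInstance
    refine restSurj_of_quotient _ hM (PicLoc.isInvertible_pullback _ hM) q ?_
    exact (app_surjective_of_isIso eQ.hom ⊤).comp ((surjective_app_top hS
      (CohQC.hh_subsingleton_of_iso eK.symm 1 ((hY (i - d)).1 1 one_pos (by omega)))).comp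
      (app_surjective_of_isIso (TMul.leftUnitIso M).inv ⊤))

theorem good : ∀ {r : ℕ} {a : Fin r → ℕ} {G : ∀ j, LefPen.Form n k (a j)}, IsCI G →
    Good (LefPen.ciIdeal G).subschemeι (n - r) := by
  intro r
  induction r with
  | zero => exact fun {a G} _ => good_zero G
  | succ r ih => exact fun {a G} h => good_succ h (ih h.pre)

end Groth.Agent.CompInt
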