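import Groth.Agent.PlaneCurve.Hyp
import Groth.Agent.SerrePn.Local
import Groth.Agent.CMFlat.RegImm
import Groth.Agent.RegDual.Scheme
import Groth.Agent.ProjInter.Main
import Groth.Agent.HomogIdeal.Basic
import Groth.Agent.ProjNoether.Const
import Groth.Agent.GrT.QCoh
import Groth.Agent.S10829
import Mathlib

/-!
Dimensions of intersections of hypersurfaces in projective space.
-/

set_option autoImplicit false
set_option linter.style.haveILetI false
set_option backward.isDefEq.respectTransparency false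
set_option backward.isDefEq.respectTransparency.types false

universe u

open CategoryTheory CategoryTheory.Limits AlgebraicGeometry TopologicalSpace Opposite

noncomputable section

namespace Groth.Agent.CompInt

variable {k : Type u} [Field k] {n : ℕ}

abbrev P (k : Type u) [Field k] (n : ℕ) : Scheme.{u} := CohB1.ProjSpace n k

instance : IsNoetherian (P k n) := CohFinite.isNoetherian_projSpace n k

theorem exists_nat_of_le {d : WithBot ℕ∞} {m : ℕ} (h : d ≤ (m : WithBot ℕ∞)) (h' : d ≠ ⊥) : ∃ e : ℕ, d = e := by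
  cases d with
  | bot => exact absurd rfl h'
  | coe v =>
    cases v with
    | top => exact absurd (WithBot.coe_le_coe.1 (h : ((⊤ : ℕ∞) : WithBot ℕ∞) ≤ ((m : ℕ∞) : WithBot ℕ∞))) (by simp)
    | coe e => exact ⟨e, rfl⟩

/-- The standard chart. -/
def C (k : Type u) [Field k] (n : ℕ) (l : Fin (n + 1)) : (P k n).affineOpens :=
  ⟨PicPn.ch (k := k) l, PicPn.isAffineOpen_ch l⟩

/-- The local equation on a chart. -/
def eqn {d : ℕ} (G : LefPen.Form n k d) (l : Fin (n + 1)) : Γ(P k n, (C k n l).1) :=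
  GrT.deh (CohB1.polyGrading n k) (PicPn.X_mem l) G.1

theorem hypIdeal_chart {d : ℕ} (G : LefPen.Form n k d) (l : Fin (n + 1)) :
    (LefPen.hypIdeal G).ideal (C k n l) = Ideal.span {eqn G l} := by
  obtain ⟨e, he, hc⟩ := PlaneCurve.exists_coeff G l
  rw [PlaneCurve.hypIdeal_eq]
  exact ZeroSch.ideal_zeroScheme_eq_span (PlaneCurve.sigma G)
    (GrT.isInvertible_twist_of_gens (PlaneCurve.hasFracGens _)) (C k n l) he hc

theorem ciIdeal_chart {r : ℕ} {a : Fin r → ℕ} (G : ∀ j, LefPen.Form n k (a j)) (l : Fin (n + 1)) :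
    (LefPen.ciIdeal G).ideal (C k n l) = Ideal.span (Set.range fun j => eqn (G j) l) := by
  rw [LefPen.ciIdeal, Scheme.IdealSheafData.ideal_iSup, iSup_apply]
  simp only [hypIdeal_chart, Ideal.span]
  rw [← Submodule.span_iUnion, Set.iUnion_singleton_eq_range]

theorem ciIdeal_succ {r : ℕ} {a : Fin (r + 1) → ℕ} (G : ∀ j, LefPen.Form n k (a j)) :
    LefPen.ciIdeal G = LefPen.ciIdeal (fun j : Fin r => G j.castSucc) ⊔ LefPen.hypIdeal (G (Fin.last r)) := by
  refine le_antisymm (iSup_le fun j => ?_) (sup_le (iSup_le fun j => ?_) ?_)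
  · induction j using Fin.lastCases with
    | last => exact le_sup_right
    | cast j => exact le_sup_of_le_left (le_iSup (fun j : Fin r => LefPen.hypIdeal (G j.castSucc)) j)
  · exact le_iSup (fun j => LefPen.hypIdeal (G j)) j.castSucc
  · exact le_iSup (fun j => LefPen.hypIdeal (G j)) (Fin.last r)

theorem mem_support_hypIdeal {d : ℕ} (hd : 1 ≤ d) (G : LefPen.Form n k d) (x : P k n) :
    x ∈ (LefPen.hypIdeal G).support ↔ G.1 ∈ (x : ProjectiveSpectrum _).asHomogeneousIdeal := by
  obtain ⟨l, hl⟩ := PicPn.exists_mem_ch (k := k) (n := n) x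
  rw [Scheme.IdealSheafData.mem_support_iff_of_mem (U := C k n l) hl, hypIdeal_chart,
    Scheme.zeroLocus_span, Scheme.mem_zeroLocus_iff]
  simp only [Set.mem_singleton_iff, forall_eq]
  have hG : G.1 ∈ CohB1.polyGrading n k (d • 1) := by rw [smul_eq_mul, mul_one]; exact G.2
  have hb : (P k n).basicOpen (eqn G l) =
      Proj.basicOpen (CohB1.polyGrading n k) (MvPolynomial.X l * G.1) := by
    rw [eqn, GrT.deh_of_mem (CohB1.polyGrading n k) (PicPn.X_mem l) G.2]
    exact GrT.basicOpen_away _ (PicPn.X_mem l) one_pos hd hG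
  rw [hb, Proj.basicOpen_mul, TopologicalSpace.Opens.mem_inf, not_and]
  refine ⟨fun h => not_not.1 fun h' => h hl ((ProjectiveSpectrum.mem_basicOpen _ _ x).2 h'),
    fun h _ h' => (ProjectiveSpectrum.mem_basicOpen _ _ x).1 h' h⟩

theorem hypIdeal_support_nonempty {d : ℕ} (hd : 1 ≤ d) (hn : 1 ≤ n) (G : LefPen.Form n k d) :
    ((LefPen.hypIdeal G).support : Set (P k n)).Nonempty := by
  let J : Ideal (MvPolynomial (Fin (n + 1)) k) := Ideal.span {G.1}
  have hJh : J.IsHomogeneous (CohB1.polyGrading n k) := Ideal.homogeneous_span _ _ (by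
    rintro _ rfl
    exact ⟨d, G.2⟩)
  have hJm : J ≤ HomogIdeal.mIdeal k n := (Ideal.span_singleton_le_iff_mem _).2
    (HomogIdeal.mem_mIdeal_iff.2 (by
      rw [MvPolynomial.constantCoeff_eq]
      exact ((MvPolynomial.mem_homogeneousSubmodule d _).1 G.2).coeff_eq_zero (by simp; omega)))
  have hJ : J ≠ ⊤ := fun h => Ideal.IsPrime.ne_top inferInstance (top_le_iff.1 (h ▸ hJm))
  obtain ⟨q, hq⟩ := J.nonempty_minimalPrimes hJ
  haveI := hq.1.1
  haveI : (J : Submodule (MvPolynomial (Fin (n + 1)) k) (MvPolynomial (Fin (n + 1)) k)).IsPrincipal := ⟨⟨G.1, rfl⟩⟩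
  have hh : q.height ≤ 1 := Ideal.height_le_one_of_isPrincipal_of_mem_minimalPrimes J q hq
  have hrel : ¬ (HomogeneousIdeal.irrelevant (CohB1.polyGrading n k)).toIdeal ≤ q := fun h => by
    rw [HomogIdeal.irrelevant_eq] at h
    have := ((ProjNoether.height_mIdeal (k := k) n).trans (Ideal.height_mono h)).trans hh
    exact absurd this (by exact_mod_cast (by omega : ¬ n + 1 ≤ 1))
  refine ⟨(⟨⟨q, HomogIdeal.isHomogeneous_of_mem_minimalPrimes hJh hq⟩, ‹q.IsPrime›, hrel⟩ :
    ProjectiveSpectrum (CohB1.polyGrading n k)), ?_⟩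
  exact (mem_support_hypIdeal hd G _).2 (hq.1.2 (Ideal.mem_span_singleton_self G.1))

theorem topDim_subscheme {X : Scheme.{u}} (I : X.IdealSheafData) :
    topologicalKrullDim I.subscheme = topologicalKrullDim ↥(I.support : Set X) := by
  let e := (I.subschemeι.isClosedEmbedding.isEmbedding.toHomeomorph.trans
    (Homeomorph.setCongr I.range_subschemeι))
  exact IsHomeomorph.topologicalKrullDim_eq _ e.isHomeomorph

variable {r : ℕ} {a : Fin r → ℕ} (G : ∀ j, LefPen.Form n k (a j))

/-- The germs of the local equations. -/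
def germs (x : P k n) {l : Fin (n + 1)} (hl : x ∈ (C k n l).1) (j : Fin r) :
    (P k n).presheaf.stalk x :=
  ((P k n).presheaf.germ (C k n l).1 x hl).hom (eqn (G j) l)

theorem ker_stalk (z : (LefPen.ciIdeal G).subscheme) {l : Fin (n + 1)}
    (hl : (LefPen.ciIdeal G).subschemeι z ∈ (C k n l).1) :
    RingHom.ker ((LefPen.ciIdeal G).subschemeι.stalkMap z).hom = Ideal.span (Set.range (germs G _ hl)) := by
  rw [CMFlat.ker_stalkMap_eq _ z (C k n l) hl, ← Scheme.Hom.ker_apply, Scheme.IdealSheafData.ker_subschemeι,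
    ciIdeal_chart, Ideal.map_span, ← Set.range_comp]
  rfl

/-- The stalks of an intersection of hypersurfaces are quotients by the local equations. -/
def stalkEquiv (z : (LefPen.ciIdeal G).subscheme) {l : Fin (n + 1)}
    (hl : (LefPen.ciIdeal G).subschemeι z ∈ (C k n l).1) :
    ((P k n).presheaf.stalk ((LefPen.ciIdeal G).subschemeι z) ⧸ Ideal.span (Set.range (germs G _ hl))) ≃+*
      (LefPen.ciIdeal G).subscheme.presheaf.stalk z :=
  (Ideal.quotEquivOfEq (ker_stalk G z hl).symm).trans
    (RingHom.quotientKerEquivOfSurjective ((LefPen.ciIdeal G).subschemeι.stalkMap_surjective z))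

theorem isClosed_image {z : (LefPen.ciIdeal G).subscheme}
    (hz : IsClosed ({z} : Set (LefPen.ciIdeal G).subscheme)) :
    IsClosed ({(LefPen.ciIdeal G).subschemeι z} : Set (P k n)) := by
  have h := (LefPen.ciIdeal G).subschemeι.isClosedEmbedding.isClosedMap _ hz
  rwa [Set.image_singleton] at h

theorem germs_mem (z : (LefPen.ciIdeal G).subscheme) {l : Fin (n + 1)}
    (hl : (LefPen.ciIdeal G).subschemeι z ∈ (C k n l).1) (j : Fin r) :
    germs G _ hl j ∈ IsLocalRing.maximalIdeal ((P k n).presheaf.stalk ((LefPen.ciIdeal G).subschemeι z)) :=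
  IsLocalRing.le_maximalIdeal (RingHom.ker_ne_top _)
    ((ker_stalk G z hl).ge (Ideal.subset_span ⟨j, rfl⟩))

/-- Krull: cutting by `r` equations lowers the dimension by at most `r`. -/
theorem le_dim_stalk (z : (LefPen.ciIdeal G).subscheme)
    (hz : IsClosed ({z} : Set (LefPen.ciIdeal G).subscheme)) :
    (n : WithBot ℕ∞) ≤ ringKrullDim ((LefPen.ciIdeal G).subscheme.presheaf.stalk z) + (r : WithBot ℕ∞) := by
  classical
  obtain ⟨l, hl⟩ := PicPn.exists_mem_ch (k := k) (n := n) ((LefPen.ciIdeal G).subschemeι z)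
  let s : Finset ((P k n).presheaf.stalk ((LefPen.ciIdeal G).subschemeι z)) := Finset.univ.image (germs G _ hl)
  have hs : (s : Set _) = Set.range (germs G _ hl) := by simp [s]
  have h1 := ringKrullDim_le_ringKrullDim_quotient_add_card s (fun y hy => by
    rw [hs] at hy
    obtain ⟨j, rfl⟩ := hy
    rw [IsLocalRing.ringJacobson_eq_maximalIdeal]
    exact germs_mem G z hl j)
  rw [SerrePn.ringKrullDim_stalk k n _ (isClosed_image G hz), hs,
    ringKrullDim_eq_of_ringEquiv (stalkEquiv G z hl)] at h1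
  refine h1.trans ?_
  gcongr
  exact_mod_cast (Finset.card_image_le.trans_eq (Finset.card_fin r))

theorem le_dim_hyp {d : ℕ} (hd : 1 ≤ d) (hn : 1 ≤ n) (H : LefPen.Form n k d) :
    (n : WithBot ℕ∞) ≤ topologicalKrullDim ↥((LefPen.hypIdeal H).support : Set (P k n)) + 1 := by
  let G : ∀ j : Fin 1, LefPen.Form n k ((fun _ => d) j) := fun _ => H
  have hI : LefPen.ciIdeal G = LefPen.hypIdeal H := ciSup_unique
  rw [← hI, ← topDim_subscheme]
  obtain ⟨x, hx⟩ := hypIdeal_support_nonempty hd hn H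
  rw [← hI, ← Scheme.IdealSheafData.range_subschemeι] at hx
  obtain ⟨z₀, -⟩ := hx
  haveI : CompactSpace (LefPen.ciIdeal G).subscheme :=
    (LefPen.ciIdeal G).subschemeι.isClosedEmbedding.compactSpace
  obtain ⟨z, -, hz⟩ := IsClosed.exists_closed_singleton (X := (LefPen.ciIdeal G).subscheme) isClosed_univ ⟨z₀, trivial⟩
  refine (le_dim_stalk G z hz).trans ?_
  rw [Nat.cast_one]
  gcongr
  exact RegDual.ringKrullDim_stalk_le_topologicalKrullDim z

/-- Dropping the last form raises the dimension by at most one. -/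
theorem dim_prefix {a : Fin (r + 1) → ℕ} (G : ∀ j, LefPen.Form n k (a j)) (ha : ∀ j, 1 ≤ a j) (hr : r + 1 ≤ n)
    (hdim : topologicalKrullDim (LefPen.ciIdeal G).subscheme ≤ ((n - (r + 1) : ℕ) : WithBot ℕ∞)) :
    topologicalKrullDim (LefPen.ciIdeal fun j : Fin r => G j.castSucc).subscheme ≤ ((n - r : ℕ) : WithBot ℕ∞) := by
  rw [topDim_subscheme] at hdim ⊢
  set Y := ((LefPen.ciIdeal fun j : Fin r => G j.castSucc).support : Set (P k n))
  set H := ((LefPen.hypIdeal (G (Fin.last r))).support : Set (P k n))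
  have hX : ((LefPen.ciIdeal G).support : Set (P k n)) = Y ∩ H := by
    rw [ciIdeal_succ, Scheme.IdealSheafData.support_sup]
    rfl
  rw [hX] at hdim
  by_contra hcon
  rw [not_le] at hcon
  have hb : ∀ Z : Set (P k n), topologicalKrullDim ↥Z ≤ (n : WithBot ℕ∞) := fun Z =>
    (topologicalKrullDim_subspace_le (P k n) Z).trans (S10829.result k n).le
  obtain ⟨e, he⟩ : ∃ e : ℕ, topologicalKrullDim ↥Y = e := exists_nat_of_le (hb _) (ne_bot_of_gt hcon)
  have hHne := hypIdeal_support_nonempty (ha (Fin.last r)) (by omega) (G (Fin.last r))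
  have hYne : Y.Nonempty := by
    by_contra h
    rw [Set.not_nonempty_iff_eq_empty] at h
    haveI : IsEmpty ↥Y := Set.isEmpty_coe_sort.2 h
    haveI : IsEmpty (IrreducibleCloseds ↥Y) := ⟨fun Z => Z.isIrreducible.nonempty.elim fun y _ => isEmptyElim y⟩
    exact not_lt_bot (lt_of_lt_of_eq hcon Order.krullDim_eq_bot)
  have hle := le_dim_hyp (ha (Fin.last r)) (by omega) (G (Fin.last r))
  obtain ⟨s, hs⟩ : ∃ s : ℕ, topologicalKrullDim ↥H = s := exists_nat_of_le (hb _) fun h => by
    rw [show topologicalKrullDim ↥((LefPen.hypIdeal (G (Fin.last r))).support : Set (P k n)) = ⊥ from h] at hle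
    simp at hle
  rw [show topologicalKrullDim ↥((LefPen.hypIdeal (G (Fin.last r))).support : Set (P k n)) = s from hs] at hle
  have hse : n ≤ s + 1 := by exact_mod_cast hle
  have hee : n - r < e := by rw [he] at hcon; exact_mod_cast hcon
  haveI : QuasiSober (ProjectiveSpectrum (CohB1.polyGrading n k)) := (inferInstance : QuasiSober ↥(P k n))
  haveI : T0Space (ProjectiveSpectrum (CohB1.polyGrading n k)) := (inferInstance : T0Space ↥(P k n))
  obtain ⟨-, h⟩ := ProjInter.main (k := k) (n := n) e s Y H (Scheme.IdealSheafData.support _).isClosed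
    (Scheme.IdealSheafData.support _).isClosed he hs (by omega)
  have h2 := h.trans (add_le_add hdim le_rfl)
  have h3 : e + s ≤ (n - (r + 1)) + n := by exact_mod_cast h2
  omega

end Groth.Agent.CompInt
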