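import Groth.Agent.CompInt.Regular
import Groth.Agent.Nakai.PullIdeal
import Groth.Agent.ParaFLib.Ext
import Mathlib

/-!
The ideal of a complete intersection inside the previous one.
-/

set_option autoImplicit false
set_option linter.style.haveILetI false
set_option backward.isDefEq.respectTransparency false
set_option backward.isDefEq.respectTransparency.types false

universe u

open CategoryTheory CategoryTheory.Limits AlgebraicGeometry TopologicalSpace Opposite

noncomputable section

namespace Groth.Agent.CompInt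

variable {k : Type u} [Field k] {n r : ℕ}

/-- A complete intersection: nonempty, of dimension at most the expected one. -/
structure IsCI {a : Fin r → ℕ} (G : ∀ j, LefPen.Form n k (a j)) : Prop where
  pos : ∀ j, 1 ≤ a j
  le : r ≤ n
  dim : topologicalKrullDim (LefPen.ciIdeal G).subscheme ≤ ((n - r : ℕ) : WithBot ℕ∞)
  nonempty : Nonempty (LefPen.ciIdeal G).subscheme

theorem isCI_of_dim {a : Fin r → ℕ} (G : ∀ j, LefPen.Form n k (a j)) (ha : ∀ j, 1 ≤ a j) (hr : r ≤ n)
    (hdim : topologicalKrullDim (LefPen.ciIdeal G).subscheme = ((n - r : ℕ) : WithBot ℕ∞)) : IsCI G := by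
  refine ⟨ha, hr, hdim.le, ?_⟩
  by_contra h
  rw [not_nonempty_iff] at h
  haveI : IsEmpty (IrreducibleCloseds ↥(LefPen.ciIdeal G).subscheme) :=
    ⟨fun Z => Z.isIrreducible.nonempty.elim fun y _ => isEmptyElim y⟩
  have h' : topologicalKrullDim ↥(LefPen.ciIdeal G).subscheme = ⊥ := Order.krullDim_eq_bot
  rw [h'] at hdim
  simp at hdim

variable {a : Fin (r + 1) → ℕ} {G : ∀ j, LefPen.Form n k (a j)}

theorem IsCI.pre (h : IsCI G) : IsCI (CompInt.pre G) := by
  refine ⟨fun j => h.pos _, (Nat.le_succ r).trans h.le, dim_prefix G h.pos h.le h.dim, ?_⟩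
  obtain ⟨z⟩ := h.nonempty
  have h1 : (LefPen.ciIdeal G).subschemeι z ∈ ((LefPen.ciIdeal G).support : Set (P k n)) :=
    (LefPen.ciIdeal G).range_subschemeι ▸ Set.mem_range_self z
  have hsub : ((LefPen.ciIdeal G).support : Set (P k n)) ⊆ ((LefPen.ciIdeal (CompInt.pre G)).support : Set (P k n)) := by
    rw [ciIdeal_succ, Scheme.IdealSheafData.support_sup]
    exact fun x hx => hx.1
  have h2 := hsub h1
  rw [← Scheme.IdealSheafData.range_subschemeι] at h2
  obtain ⟨z', -⟩ := h2
  exact ⟨z'⟩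

theorem IsCI.last_ne_zero (h : IsCI G) : G (Fin.last r) ≠ 0 := by
  intro h0
  obtain ⟨z⟩ := h.pre.nonempty
  obtain ⟨l, hl⟩ := PicPn.exists_mem_ch (k := k) (n := n) ((LefPen.ciIdeal (CompInt.pre G)).subschemeι z)
  have h1 := eqnY_mem_nonZeroDivisors G h.le h.pos h.dim l
  rw [eqnY, eqn, h0, ZeroMemClass.coe_zero, map_zero, map_zero] at h1
  haveI : Nonempty ((LefPen.ciIdeal (CompInt.pre G)).subschemeι ⁻¹ᵁ (C k n l).1) := ⟨⟨z, hl⟩⟩
  exact zero_notMem_nonZeroDivisors h1

theorem IsCI.isEffCartier_hyp (h : IsCI G) : BlowUp.IsEffCartierIdeal (LefPen.hypIdeal (G (Fin.last r))) := by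
  obtain ⟨e⟩ := PlaneCurve.nonempty_ideal_iso_twist (G (Fin.last r)) h.last_ne_zero
  exact (S8914.result _).1 (ParaFLib.isInvertible_of_iso e.symm
    (GrT.isInvertible_twist_of_gens (PlaneCurve.hasFracGens _)))

/-- The hypersurface meets the previous intersection in a Cartier divisor. -/
theorem IsCI.isEffCartier_comap (h : IsCI G) : BlowUp.IsEffCartierIdeal
    ((LefPen.hypIdeal (G (Fin.last r))).comap (LefPen.ciIdeal (CompInt.pre G)).subschemeι) := by
  intro y
  obtain ⟨l, hl⟩ := PicPn.exists_mem_ch (k := k) (n := n) ((LefPen.ciIdeal (CompInt.pre G)).subschemeι y)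
  refine ⟨⟨_, (C k n l).2.preimage (LefPen.ciIdeal (CompInt.pre G)).subschemeι⟩, hl, eqnY G l,
    eqnY_mem_nonZeroDivisors G h.le h.pos h.dim l, ?_⟩
  rw [Groth.Agent.FpqcDescent.ideal_comap_appLE _ _ (C k n l) _ (le_refl _), hypIdeal_chart, Ideal.map_span,
    Set.image_singleton, ← Scheme.Hom.app_eq_appLE]
  rfl

/-- The ideal of the next intersection inside the previous one. -/
theorem IsCI.nonempty_idealMod_iso (h : IsCI G) :
    Nonempty (ClSub.idealMod ((LefPen.hypIdeal (G (Fin.last r))).comap (LefPen.ciIdeal (CompInt.pre G)).subschemeι) ≅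
      (Scheme.Modules.pullback (LefPen.ciIdeal (CompInt.pre G)).subschemeι).obj
        (Twist.twistProjSpace n k (-(a (Fin.last r) : ℤ)))) := by
  obtain ⟨e⟩ := Nakai.nonempty_pullback_idealMod (LefPen.ciIdeal (CompInt.pre G)).subschemeι h.isEffCartier_hyp
    h.isEffCartier_comap
  obtain ⟨t⟩ := PlaneCurve.nonempty_ideal_iso_twist (G (Fin.last r)) h.last_ne_zero
  exact ⟨e.symm ≪≫ (Scheme.Modules.pullback _).mapIso t⟩

end Groth.Agent.CompInt
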