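import Groth.Agent.CompInt.Dim
import Groth.Agent.CMFlat.Quotient
import Groth.Agent.SerreReg.CM
import Groth.Agent.FpqcDescent.IdealGlue
import Groth.Agent.SerrePn.ClosedDepth
import Mathlib

/-!
The last equation of a complete intersection is a non-zero-divisor on the previous one.
-/

set_option autoImplicit false
set_option linter.style.haveILetI false
set_option backward.isDefEq.respectTransparency false
set_option backward.isDefEq.respectTransparency.types false

universe u

open CategoryTheory CategoryTheory.Limits AlgebraicGeometry TopologicalSpace Opposite IsLocalRing RingTheory.Sequence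

noncomputable section

namespace Groth.Agent.CompInt

variable {k : Type u} [Field k] {n : ℕ}

/-- In a Cohen-Macaulay local ring elements lowering the dimension maximally form a weakly regular sequence. -/
theorem isWeaklyRegular_of_dim {R : Type u} [CommRing R] [IsNoetherianRing R] [LocCoh.IsCohenMacaulayLocalRing R]
    {r : ℕ} (g : Fin r → R) (hJm : Ideal.span (Set.range g) ≤ maximalIdeal R) {e : ℕ}
    (he : ringKrullDim (R ⧸ Ideal.span (Set.range g)) = (e : WithBot ℕ∞))
    (hdimR : ringKrullDim R = ((r + e : ℕ) : WithBot ℕ∞)) : IsWeaklyRegular R (List.ofFn g) := by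
  set J := Ideal.span (Set.range g) with hJ
  haveI : Nontrivial (R ⧸ J) := Ideal.Quotient.nontrivial_iff.2 fun h =>
    (maximalIdeal.isMaximal R).ne_top (top_le_iff.1 (h ▸ hJm))
  haveI : IsLocalRing (R ⧸ J) := IsLocalRing.of_surjective' _ Ideal.Quotient.mk_surjective
  obtain ⟨b, hb⟩ := SerreReg.exists_sop (R ⧸ J) e he
  choose b' hb' using fun i => Ideal.Quotient.mk_surjective (b i)
  let a : Fin (r + e) → R := Fin.append g b'
  have hrange : Ideal.span (Set.range a) = J ⊔ Ideal.span (Set.range b') := by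
    rw [show Set.range a = Set.range g ∪ Set.range b' by
      ext z
      constructor
      · rintro ⟨i, rfl⟩
        induction i using Fin.addCases with
        | left i => exact Or.inl ⟨i, by simp [a]⟩
        | right i => exact Or.inr ⟨i, by simp [a]⟩
      · rintro (⟨i, rfl⟩ | ⟨i, rfl⟩)
        · exact ⟨Fin.castAdd e i, by simp [a]⟩
        · exact ⟨Fin.natAdd r i, by simp [a]⟩, Ideal.span_union]
  have hsop : CMSop.IsSop a := by
    rw [CMSop.IsSop, hrange]
    have h1 : (Ideal.span (Set.range b)).comap (Ideal.Quotient.mk J) = J ⊔ Ideal.span (Set.range b') := by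
      rw [show Set.range b = (Ideal.Quotient.mk J) '' Set.range b' by
        rw [← Set.range_comp]; exact congrArg Set.range (funext fun i => (hb' i).symm),
        ← Ideal.map_span, Ideal.comap_map_of_surjective _ Ideal.Quotient.mk_surjective, ← RingHom.ker_eq_comap_bot,
        Ideal.mk_ker, sup_comm]
    rw [← h1, ← Ideal.comap_radical, hb]
    exact IsLocalRing.eq_maximalIdeal (Ideal.comap_isMaximal_of_surjective _ Ideal.Quotient.mk_surjective)
  have hreg := SerreReg.isWeaklyRegular_take_of_isSop hsop (CMFlat.hasRegSeq_of_cm (n := r + e) hdimR) r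
  rwa [List.ofFn_fin_append, List.take_left' (List.length_ofFn)] at hreg

/-- The last member of a weakly regular sequence is regular modulo the others. -/
theorem mem_of_mul_last_mem {R : Type u} [CommRing R] {r : ℕ} (g : Fin (r + 1) → R)
    (h : IsWeaklyRegular R (List.ofFn g)) {x : R}
    (hx : x * g (Fin.last r) ∈ Ideal.span (Set.range fun j : Fin r => g j.castSucc)) :
    x ∈ Ideal.span (Set.range fun j : Fin r => g j.castSucc) := by
  rw [List.ofFn_succ', List.concat_eq_append, isWeaklyRegular_append_iff] at h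
  have h2 := (isWeaklyRegular_cons_iff _ _ _).1 h.2 |>.1
  have hJ : (Ideal.ofList (List.ofFn fun j : Fin r => g j.castSucc) • ⊤ : Submodule R R) =
      Ideal.span (Set.range fun j : Fin r => g j.castSucc) := by
    rw [smul_eq_mul, Ideal.mul_top, Ideal.ofList]
    congr 1
    ext z
    simp [List.mem_ofFn']
  have hx' : g (Fin.last r) • (Submodule.Quotient.mk x : R ⧸ (Ideal.ofList (List.ofFn fun j : Fin r => g j.castSucc) • ⊤ : Submodule R R)) =
      g (Fin.last r) • 0 := by
    rw [smul_zero, ← Submodule.Quotient.mk_smul, Submodule.Quotient.mk_eq_zero, hJ, smul_eq_mul, mul_comm]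
    exact hx
  have h3 := h2 hx'
  rw [Submodule.Quotient.mk_eq_zero, hJ] at h3
  exact h3

variable {r : ℕ} {a : Fin (r + 1) → ℕ} (G : ∀ j, LefPen.Form n k (a j))

/-- The previous intersection. -/
abbrev pre : ∀ j : Fin r, LefPen.Form n k ((fun j : Fin r => a j.castSucc) j) := fun j => G j.castSucc

/-- At closed points of the previous intersection the last equation is regular. -/
theorem mem_of_mul_mem (hr : r + 1 ≤ n) (ha : ∀ j, 1 ≤ a j)
    (hdim : topologicalKrullDim (LefPen.ciIdeal G).subscheme ≤ ((n - (r + 1) : ℕ) : WithBot ℕ∞))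
    (x : P k n) (hx : IsClosed ({x} : Set (P k n))) {l : Fin (n + 1)} (hl : x ∈ (C k n l).1)
    {b : (P k n).presheaf.stalk x}
    (hb : b * germs G x hl (Fin.last r) ∈ Ideal.span (Set.range (germs (pre G) x hl))) :
    b ∈ Ideal.span (Set.range (germs (pre G) x hl)) := by
  by_cases hu : IsUnit (germs G x hl (Fin.last r))
  · obtain ⟨v, hv⟩ := hu
    have := Ideal.mul_mem_right (↑v⁻¹ : (P k n).presheaf.stalk x) _ hb
    rwa [← hv, mul_assoc, Units.mul_inv, mul_one] at this
  by_cases hpre : Ideal.span (Set.range (germs (pre G) x hl)) = ⊤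
  · rw [hpre]; trivial
  have hall : ∀ j, germs G x hl j ∈ maximalIdeal ((P k n).presheaf.stalk x) := fun j => by
    induction j using Fin.lastCases with
    | last => exact hu
    | cast j => exact IsLocalRing.le_maximalIdeal hpre (Ideal.subset_span ⟨j, rfl⟩)
  have hsupp : x ∈ (LefPen.ciIdeal G).support := by
    rw [Scheme.IdealSheafData.mem_support_iff_of_mem (U := C k n l) hl, ciIdeal_chart, Scheme.zeroLocus_span,
      Scheme.mem_zeroLocus_iff]
    rintro _ ⟨j, rfl⟩ hmem
    exact hall j (((P k n).mem_basicOpen _ x hl).1 hmem)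
  rw [← SetLike.mem_coe, ← Scheme.IdealSheafData.range_subschemeι] at hsupp
  obtain ⟨z, rfl⟩ := hsupp
  have hz : IsClosed ({z} : Set (LefPen.ciIdeal G).subscheme) :=
    (SerrePn.isClosed_singleton_iff (LefPen.ciIdeal G).subschemeι z).1 hx
  haveI := SerrePn.isRegularLocalRing_stalk k n ((LefPen.ciIdeal G).subschemeι z)
  haveI := CMFlat.isCohenMacaulayLocalRing_of_isRegularLocalRing
    ((P k n).presheaf.stalk ((LefPen.ciIdeal G).subschemeι z))
  have h1 := le_dim_stalk G z hz
  have h2 := (RegDual.ringKrullDim_stalk_le_topologicalKrullDim z).trans hdim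
  obtain ⟨e, he⟩ := exists_nat_of_le h2 (ne_bot_of_le_ne_bot WithBot.zero_ne_bot ringKrullDim_nonneg_of_nontrivial)
  rw [he] at h1 h2
  have he1 : n ≤ e + (r + 1) := by exact_mod_cast h1
  have he2 : e ≤ n - (r + 1) := by exact_mod_cast h2
  have hreg := isWeaklyRegular_of_dim (germs G _ hl) (e := e)
    (Ideal.span_le.2 (by rintro _ ⟨j, rfl⟩; exact hall j))
    ((ringKrullDim_eq_of_ringEquiv (stalkEquiv G z hl)).trans he)
    (by rw [SerrePn.ringKrullDim_stalk k n _ hx, show r + 1 + e = n by omega])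
  exact mem_of_mul_last_mem _ hreg hb

/-- The equation on the previous intersection. -/
def eqnY (l : Fin (n + 1)) :
    Γ((LefPen.ciIdeal (pre G)).subscheme, (LefPen.ciIdeal (pre G)).subschemeι ⁻¹ᵁ (C k n l).1) :=
  ((LefPen.ciIdeal (pre G)).subschemeι.app (C k n l).1).hom (eqn (G (Fin.last r)) l)

/-- The last equation is a non-zero-divisor on the previous intersection. -/
theorem eqnY_mem_nonZeroDivisors (hr : r + 1 ≤ n) (ha : ∀ j, 1 ≤ a j)
    (hdim : topologicalKrullDim (LefPen.ciIdeal G).subscheme ≤ ((n - (r + 1) : ℕ) : WithBot ℕ∞))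
    (l : Fin (n + 1)) : eqnY G l ∈ nonZeroDivisors
      Γ((LefPen.ciIdeal (pre G)).subscheme, (LefPen.ciIdeal (pre G)).subschemeι ⁻¹ᵁ (C k n l).1) := by
  set Y := (LefPen.ciIdeal (pre G)).subscheme with hY
  set ι := (LefPen.ciIdeal (pre G)).subschemeι with hι
  haveI := ProjMor.isProper_toSpec n k
  haveI : JacobsonSpace Y := LocallyOfFiniteType.jacobsonSpace (ι ≫ CohB1.ProjSpace.toSpec n k)
  rw [mem_nonZeroDivisors_iff_right]
  intro s hs
  have hclosed : ∀ y : Y, IsClosed ({y} : Set Y) → ∀ hy : y ∈ ι ⁻¹ᵁ (C k n l).1,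
      (Y.presheaf.germ _ y hy).hom s = 0 := by
    intro y hyc hy
    obtain ⟨b, hb⟩ := ι.stalkMap_surjective y ((Y.presheaf.germ _ y hy).hom s)
    rw [← hb]
    have h0 : (ι.stalkMap y).hom (b * germs G (ι y) hy (Fin.last r)) = 0 := by
      rw [map_mul, hb]
      have h1 : (ι.stalkMap y).hom (germs G (ι y) hy (Fin.last r)) = (Y.presheaf.germ _ y hy).hom (eqnY G l) :=
        Scheme.Hom.germ_stalkMap_apply ι (C k n l).1 y hy _
      rw [h1, ← map_mul, hs, map_zero]
    rw [← RingHom.mem_ker, ker_stalk (pre G) y hy] at h0 ⊢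
    exact mem_of_mul_mem G hr ha hdim (ι y) (isClosed_image (pre G) hyc) hy h0
  let O : Y.Opens := ⨆ W : {W : Y.Opens // ∃ h : W ≤ ι ⁻¹ᵁ (C k n l).1, (Y.presheaf.map (homOfLE h).op).hom s = 0}, W.1
  have hO : ι ⁻¹ᵁ (C k n l).1 ≤ O := by
    intro y hy
    by_contra hyO
    obtain ⟨y', ⟨hy'V, hy'O⟩, hy'c⟩ := nonempty_inter_closedPoints (X := Y)
      (Z := ((ι ⁻¹ᵁ (C k n l).1 : Y.Opens) : Set Y) ∩ (O : Set Y)ᶜ) ⟨y, hy, hyO⟩
      (((ι ⁻¹ᵁ (C k n l).1).isOpen.isLocallyClosed).inter O.isOpen.isClosed_compl.isLocallyClosed)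
    have hg := hclosed y' hy'c hy'V
    obtain ⟨W, hW, i₁, i₂, he⟩ := TopCat.Presheaf.germ_eq Y.presheaf y' hy'V hy'V s 0 (hg.trans (map_zero _).symm)
    exact hy'O (Opens.mem_iSup.2 ⟨⟨W, leOfHom i₁, he.trans (map_zero _)⟩, hW⟩)
  refine TopCat.Presheaf.section_ext Y.sheaf _ _ _ fun y hy => ?_
  obtain ⟨⟨W, hW, hW0⟩, hyW⟩ := Opens.mem_iSup.1 (hO hy)
  show (Y.presheaf.germ _ y hy).hom s = (Y.presheaf.germ _ y hy).hom 0
  rw [← TopCat.Presheaf.germ_res_apply Y.presheaf (homOfLE hW) y hyW s, hW0, map_zero, map_zero]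

end Groth.Agent.CompInt
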