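import Groth.Agent.CompInt.Cohom
import Groth.Agent.HodgeCI.CIMain
import Groth.Agent.HodgeCI.Div
import Groth.Agent.PnHodge.Seq
import Mathlib

/-!
Top cohomology of the twists of complete intersections: the threshold `∑ a - n - 1`.
-/

set_option autoImplicit false
set_option linter.style.haveILetI false
set_option backward.isDefEq.respectTransparency false
set_option backward.isDefEq.respectTransparency.types false

universe u

open CategoryTheory CategoryTheory.Limits AlgebraicGeometry TopologicalSpace Opposite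
open Groth.Agent.CohFinite

noncomputable section

namespace Groth.Agent.CompInt

variable {k : Type u} [Field k] {n : ℕ}

theorem hh_pullback_iff_of_ker_eq_bot {X Y : Scheme.{u}} (g : X ⟶ Y) [IsClosedImmersion g] (h : g.ker = ⊥)
    (st : Y ⟶ Spec (CommRingCat.of k)) (M : Y.Modules) (hM : Coh.IsQCoh M) (q : ℕ) :
    Subsingleton (Coh.HH X ((Scheme.Modules.pullback g).obj M) q) ↔ Subsingleton (Coh.HH Y M q) := by
  refine ⟨fun hv => ?_, hh_pullback_of_ker_eq_bot g h st M hM q⟩
  haveI := QC.isQCoh_pullback g hM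
  haveI := isIso_unit_of_ker_eq_bot g h M
  exact CohQC.hh_subsingleton_of_iso
    (asIso ((Scheme.Modules.pullbackPushforwardAdjunction g).unit.app M)).symm q ((hh_push_iff g st _ q).1 hv)

theorem hh_pullback_comp_iff {X Y Z : Scheme.{u}} (f : X ⟶ Y) (g : Y ⟶ Z) (L : Z.Modules) (q : ℕ) :
    Subsingleton (Coh.HH X ((Scheme.Modules.pullback (f ≫ g)).obj L) q) ↔
      Subsingleton (Coh.HH X ((Scheme.Modules.pullback f).obj ((Scheme.Modules.pullback g).obj L)) q) :=
  ⟨fun hv => CohQC.hh_subsingleton_of_iso ((Scheme.Modules.pullbackComp f g).app L).symm q hv,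
    hh_pullback_comp f g L q⟩

/-- Top cohomology vanishes above `T` and not at `T`. -/
def Top {X : Scheme.{u}} (f : X ⟶ P k n) (m : ℕ) (T : ℤ) : Prop :=
  (∀ i : ℤ, T < i → Subsingleton (Coh.HH X ((Scheme.Modules.pullback f).obj (Twist.twistProjSpace n k i)) m)) ∧
    ¬ Subsingleton (Coh.HH X ((Scheme.Modules.pullback f).obj (Twist.twistProjSpace n k T)) m)

theorem top_zero (h0 : n ≠ 0) {a : Fin 0 → ℕ} (G : ∀ j, LefPen.Form n k (a j)) :
    Top (LefPen.ciIdeal G).subschemeι n (-((n : ℤ) + 1)) := by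
  have hker : (LefPen.ciIdeal G).subschemeι.ker = ⊥ := by
    rw [Scheme.IdealSheafData.ker_subschemeι, LefPen.ciIdeal, iSup_of_empty]
  have key := fun i => hh_pullback_iff_of_ker_eq_bot _ hker (CohB1.ProjSpace.toSpec n k) _
    (isQCoh_twist (k := k) (n := n) i) n
  refine ⟨fun i hi => (key i).2 ?_, fun hs => ?_⟩
  · exact ProjCech.twist_vanish (R := k) n i n (fun h => h0 h.1) (fun h => by omega)
  · have h1 := (key _).1 hs
    obtain ⟨e⟩ := ProjCech.top_equiv (R := k) n 0
    rw [show -((n : ℤ) + 1) = -((n : ℤ) + 1 + ((0 : ℕ) : ℤ)) by simp] at h1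
    have h2 := e.toEquiv.subsingleton_congr.1 h1
    exact one_ne_zero (congrArg Subtype.val (h2.elim
      ⟨1, (MvPolynomial.mem_homogeneousSubmodule _ _).2 (MvPolynomial.isHomogeneous_one _ _)⟩ 0))

theorem top_succ {r : ℕ} {a : Fin (r + 1) → ℕ} {G : ∀ j, LefPen.Form n k (a j)} (h : IsCI G)
    (hm : r + 1 < n) {T : ℤ} (hY : Top (LefPen.ciIdeal (pre G)).subschemeι (n - r) T) :
    Top (LefPen.ciIdeal G).subschemeι (n - (r + 1)) (T + a (Fin.last r)) := by
  have hgood := good h.pre
  set IY := LefPen.ciIdeal (pre G) with hIY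
  set J := (LefPen.hypIdeal (G (Fin.last r))).comap IY.subschemeι with hJ
  have hkerJ : (J.subschemeι ≫ IY.subschemeι).ker = LefPen.ciIdeal G := by
    rw [← Scheme.IdealSheafData.map_ker, Scheme.IdealSheafData.ker_subschemeι, hJ,
      map_comap_eq_sup, Scheme.IdealSheafData.ker_subschemeι, ciIdeal_succ, sup_comm]
  let e : (LefPen.ciIdeal G).subscheme ⟶ J.subscheme := IsClosedImmersion.lift (J.subschemeι ≫ IY.subschemeι)
    (LefPen.ciIdeal G).subschemeι (by rw [hkerJ, Scheme.IdealSheafData.ker_subschemeι])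
  have he : e ≫ J.subschemeι ≫ IY.subschemeι = (LefPen.ciIdeal G).subschemeι := IsClosedImmersion.lift_fac _ _ _
  haveI : IsClosedImmersion (e ≫ J.subschemeι ≫ IY.subschemeι) := by rw [he]; infer_instance
  haveI : IsClosedImmersion e := IsClosedImmersion.of_comp e (J.subschemeι ≫ IY.subschemeι)
  haveI : IsIso e := IsClosedImmersion.isIso_of_ker_eq (LefPen.ciIdeal G).subschemeι
    (J.subschemeι ≫ IY.subschemeι) e he (by rw [hkerJ, Scheme.IdealSheafData.ker_subschemeι])
  have heker : e.ker = ⊥ := e.ker_eq_bot_of_isIso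
  letI : IY.subscheme.Over (Spec (CommRingCat.of k)) := ⟨IY.subschemeι ≫ CohB1.ProjSpace.toSpec n k⟩
  obtain ⟨t⟩ := h.nonempty_idealMod_iso
  let q := n - (r + 1)
  have hq : 0 < q := Nat.sub_pos_of_lt hm
  have hqm : n - r = q + 1 := by omega
  let d : ℤ := (a (Fin.last r) : ℤ)
  have step : ∀ i : ℤ,
      (Subsingleton (Coh.HH IY.subscheme ((Scheme.Modules.pullback IY.subschemeι).obj (Twist.twistProjSpace n k (i - d))) (q + 1)) →
        Subsingleton (Coh.HH (LefPen.ciIdeal G).subscheme
          ((Scheme.Modules.pullback (LefPen.ciIdeal G).subschemeι).obj (Twist.twistProjSpace n k i)) q)) ∧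
      (Subsingleton (Coh.HH IY.subscheme ((Scheme.Modules.pullback IY.subschemeι).obj (Twist.twistProjSpace n k i)) (q + 1)) →
        Subsingleton (Coh.HH (LefPen.ciIdeal G).subscheme
          ((Scheme.Modules.pullback (LefPen.ciIdeal G).subschemeι).obj (Twist.twistProjSpace n k i)) q) →
        Subsingleton (Coh.HH IY.subscheme ((Scheme.Modules.pullback IY.subschemeι).obj (Twist.twistProjSpace n k (i - d))) (q + 1))) := by
    intro i
    let L := Twist.twistProjSpace n k i
    let M := (Scheme.Modules.pullback IY.subschemeι).obj L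
    have hL : PicF.IsInvertible L := GrT.isInvertible_twist_of_gens (PlaneCurve.hasFracGens _)
    have hM : PicF.IsInvertible M := PicLoc.isInvertible_pullback _ hL
    obtain ⟨t'⟩ := GrT.nonempty_twist_tensor_iso (CohB1.polyGrading n k) (a := -d) (b := i) (c := i - d)
      (PlaneCurve.hasFracGens _) (by ring)
    let eK : CohB1.tensorMod (ClSub.idealMod J) M ≅
        (Scheme.Modules.pullback IY.subschemeι).obj (Twist.twistProjSpace n k (i - d)) :=
      PicGrp.tensorModIso t (Iso.refl _) ≪≫ TMul.commIso _ _ ≪≫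
        Groth.Agent.KFlat.pullTensorIso IY.subschemeι _ _ ≪≫ (Scheme.Modules.pullback IY.subschemeι).mapIso t'
    obtain ⟨eQ₀⟩ := SerrePn.nonempty_pushTwist J.subschemeι (Coh.structureModule J.subscheme) hM
    let eQ : CohB1.tensorMod (ClSub.quotMod J) M ≅
        (Scheme.Modules.pushforward J.subschemeι).obj ((Scheme.Modules.pullback J.subschemeι).obj M) :=
      eQ₀ ≪≫ (Scheme.Modules.pushforward J.subschemeι).mapIso (TMul.leftUnitIso _)
    have hS := shortExact_tmap hM (CurveRR.ideal_shortExact J)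
    haveI := QC.isQCoh_pullback J.subschemeι (TMul.isQCoh_of_isInvertible hM)
    have hX : Subsingleton (Coh.HH (LefPen.ciIdeal G).subscheme
        ((Scheme.Modules.pullback (LefPen.ciIdeal G).subschemeι).obj L) q) ↔
        Subsingleton (Coh.HH IY.subscheme (CohB1.tensorMod (ClSub.quotMod J) M) q) := by
      rw [← he, hh_pullback_comp_iff, hh_pullback_iff_of_ker_eq_bot e heker
        ((J.subschemeι ≫ IY.subschemeι) ≫ CohB1.ProjSpace.toSpec n k) _
        (TMul.isQCoh_of_isInvertible (PicLoc.isInvertible_pullback _ hL)), hh_pullback_comp_iff,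
        hh_push_iff J.subschemeι (IY.subschemeι ≫ CohB1.ProjSpace.toSpec n k) _ q]
      exact ⟨CohQC.hh_subsingleton_of_iso eQ.symm q, CohQC.hh_subsingleton_of_iso eQ q⟩
    refine ⟨fun hv => hX.2 (CohFinite.subsingleton_of_shortExact hS q
      (CohQC.hh_subsingleton_of_iso (TMul.leftUnitIso M).symm q ((hgood i).1 q hq (by omega)))
      (CohQC.hh_subsingleton_of_iso eK.symm (q + 1) hv)), fun hm2 hv => ?_⟩
    refine CohQC.hh_subsingleton_of_iso eK (q + 1) (HodgeCI.subsingleton_left k hS (q + 1)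
      (CohQC.hh_subsingleton_of_iso (TMul.leftUnitIso M).symm (q + 1) hm2) fun j hj => ?_)
    obtain rfl : j = q := by omega
    exact hX.1 hv
  have ha : (1 : ℤ) ≤ d := by simp only [d]; exact_mod_cast h.pos (Fin.last r)
  rw [hqm] at hY
  refine ⟨fun i hi => (step i).1 (hY.1 _ (by simp only [d]; omega)), fun hv => hY.2 ?_⟩
  have := (step (T + d)).2 (hY.1 _ (by omega)) hv
  rwa [add_sub_cancel_right] at this

theorem top : ∀ {r : ℕ} {a : Fin r → ℕ} {G : ∀ j, LefPen.Form n k (a j)}, IsCI G → r < n →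
    Top (LefPen.ciIdeal G).subschemeι (n - r) ((∑ j, (a j : ℤ)) - n - 1) := by
  intro r
  induction r with
  | zero =>
    intro a G _ hn0
    have := top_zero (by omega) G
    simpa [show -((n : ℤ) + 1) = -(n : ℤ) - 1 by ring] using this
  | succ r ih =>
    intro a G h hr
    have := top_succ h hr (ih h.pre (by omega))
    rw [Fin.sum_univ_castSucc]
    convert this using 1
    ring

/-- On a smooth complete intersection curve, `H¹` of the twists vanishes exactly above the threshold. -/
theorem curve_iff {r : ℕ} {a : Fin r → ℕ} (ha : ∀ j, 1 ≤ a j) (G : ∀ j, LefPen.Form (1 + r) k (a j))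
    [SmoothOfRelativeDimension 1 ((LefPen.ciIdeal G).subschemeι ≫ CohB1.ProjSpace.toSpec (1 + r) k)] (i : ℤ) :
    Subsingleton (Coh.HH (LefPen.ciIdeal G).subscheme
      ((Scheme.Modules.pullback (LefPen.ciIdeal G).subschemeι).obj (Twist.twistProjSpace (1 + r) k i)) 1) ↔
      (∑ j, (a j : ℤ)) - ((1 + r : ℕ) : ℤ) - 1 < i := by
  set f := (LefPen.ciIdeal G).subschemeι with hf
  have hT := top (HodgeCI.isCI_of_smooth ha G) (by omega)
  rw [show 1 + r - r = 1 by omega] at hT
  refine ⟨fun hv => ?_, hT.1 i⟩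
  by_contra hle
  refine hT.2 ?_
  letI : (LefPen.ciIdeal G).subscheme.Over (Spec (CommRingCat.of k)) := ⟨f ≫ CohB1.ProjSpace.toSpec (1 + r) k⟩
  haveI : SmoothOfRelativeDimension 1 ((LefPen.ciIdeal G).subscheme ↘ Spec (CommRingCat.of k)) :=
    ‹SmoothOfRelativeDimension 1 (f ≫ CohB1.ProjSpace.toSpec (1 + r) k)›
  haveI : IsProper ((LefPen.ciIdeal G).subscheme ↘ Spec (CommRingCat.of k)) := ExtFund.isProper_of_closed f rfl
  haveI := PnHodge.quasiSeparated_toSpec (1 + r) k
  suffices h : ∀ c : ℕ, Subsingleton (Coh.HH (LefPen.ciIdeal G).subscheme (HodgeCI.tw f (i + c)) 1) by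
    obtain ⟨c, hc⟩ := Int.le.dest (not_lt.1 hle)
    simpa [HodgeCI.tw, hc] using h c
  intro c
  induction c with
  | zero => rw [Nat.cast_zero, add_zero]; exact hv
  | succ c ih =>
    obtain ⟨E, q₀, hq₀, ⟨eE⟩, -⟩ := HodgeCI.exists_pulled_euler f
    haveI := hq₀
    obtain ⟨w⟩ := HodgeCI.nonempty_tw_add f (i + c) 1 (i + (c + 1 : ℕ)) (by push_cast; ring)
    let S₀ := ShortComplex.mk (kernel.ι q₀) q₀ (kernel.condition q₀)
    have hS₀ : S₀.ShortExact := { exact := ShortComplex.exact_kernel q₀ }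
    have hS := shortExact_tmap (HodgeCI.isInvertible_tw f (i + c)) hS₀
    refine CohQC.hh_subsingleton_of_iso w 1 (CohFinite.subsingleton_of_shortExact hS 1 ?_ ?_)
    · exact CohQC.hh_subsingleton_of_iso (PicGrp.tensorModIso eE (Iso.refl _)).symm 1
        (PnHodge.subsingleton_hh_free k _ 1 ih)
    · exact HodgeCI.subsingleton_above_dim (k := k) (n := 1) _ 2 one_lt_two

end Groth.Agent.CompInt
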